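import Groth.Agent.Lib.Helper5.HilbF.Functor

set_option backward.isDefEq.respectTransparency.types false
set_option synthInstance.maxHeartbeats 400000
set_option autoImplicit false
universe w u
open CategoryTheory CategoryTheory.Limits AlgebraicGeometry Opposite

namespace Groth.Agent.Lib.Helper5.HilbF

open Groth.Agent.Lead.HilbAPI Groth.Agent.Lib.Helper5.LocRepF Groth.Agent.Lib.Helper5.IdGlue

variable {X S : Scheme.{u}} (f : X ⟶ S) (d : ℕ)

/-- the base change square of a closed subscheme of `X_T` along `T' ⟶ T`. -/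
theorem isPullback_sub {T T' : Over S} (m : T' ⟶ T) (J : (PicF.XT f T).IdealSheafData) :
    IsPullback (pullback.snd (PicF.XTmap f m) J.subschemeι)
      (pullback.fst (PicF.XTmap f m) J.subschemeι ≫ PicF.XTproj f T')
      (J.subschemeι ≫ PicF.XTproj f T) m.left :=
  (IsPullback.of_hasPullback (PicF.XTmap f m) J.subschemeι).flip.paste_vert
    (isPullback_XTmap f m)

theorem comap_sub_eq {T T' : Over S} (m : T' ⟶ T) (J : (PicF.XT f T).IdealSheafData) :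
    (J.comap (PicF.XTmap f m)).subschemeι ≫ PicF.XTproj f T' =
      (J.comapIso (PicF.XTmap f m)).hom ≫
        (pullback.fst (PicF.XTmap f m) J.subschemeι ≫ PicF.XTproj f T') := by
  rw [← Category.assoc, Scheme.IdealSheafData.comapIso_hom_fst]

/-- a property local on the target can be checked for a closed subscheme of `X_T` on an open
cover of `T`. -/
theorem prop_of_cover (P : MorphismProperty Scheme.{u}) [IsZariskiLocalAtTarget P]
    {T₀ : Scheme.{u}} (t : T₀ ⟶ S) (𝒱 : Scheme.OpenCover.{w} T₀)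
    (J : (PicF.XT f (Over.mk t)).IdealSheafData)
    (h : ∀ j, P ((J.comap (PicF.XTmap f (oHom (𝒱.f j) t))).subschemeι ≫
      PicF.XTproj f (Over.mk (𝒱.f j ≫ t)))) :
    P (J.subschemeι ≫ PicF.XTproj f (Over.mk t)) := by
  apply IsZariskiLocalAtTarget.of_openCover (P := P) 𝒱
  intro j
  have sq := isPullback_sub f (oHom (𝒱.f j) t) J
  have h1 := h j
  rw [comap_sub_eq, P.cancel_left_of_respectsIso] at h1
  have h2 : 𝒱.pullbackHom (J.subschemeι ≫ PicF.XTproj f (Over.mk t)) j =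
      sq.isoPullback.inv ≫ (pullback.fst (PicF.XTmap f (oHom (𝒱.f j) t)) J.subschemeι ≫
        PicF.XTproj f (Over.mk (𝒱.f j ≫ t))) := by
    rw [IsPullback.isoPullback_inv_snd]
    rfl
  rw [h2]
  exact (P.cancel_left_of_respectsIso _ _).2 h1

theorem isFinLocFreeOfDeg_of_cover {T₀ : Scheme.{u}} (t : T₀ ⟶ S)
    (𝒱 : Scheme.OpenCover.{w} T₀) (J : (PicF.XT f (Over.mk t)).IdealSheafData)
    (h : ∀ j, Mor2.IsFinLocFreeOfDeg d
      ((J.comap (PicF.XTmap f (oHom (𝒱.f j) t))).subschemeι ≫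
        PicF.XTproj f (Over.mk (𝒱.f j ≫ t)))) :
    Mor2.IsFinLocFreeOfDeg d (J.subschemeι ≫ PicF.XTproj f (Over.mk t)) := by
  haveI h1 : IsFinite (J.subschemeι ≫ PicF.XTproj f (Over.mk t)) :=
    prop_of_cover f @IsFinite t 𝒱 J fun j => (h j).1.1
  haveI h2 : Flat (J.subschemeι ≫ PicF.XTproj f (Over.mk t)) :=
    prop_of_cover f @Flat t 𝒱 J fun j => (h j).1.2.1
  haveI h3 : LocallyOfFinitePresentation (J.subschemeι ≫ PicF.XTproj f (Over.mk t)) :=
    prop_of_cover f @LocallyOfFinitePresentation t 𝒱 J fun j => (h j).1.2.2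
  refine ⟨⟨h1, h2, h3⟩, fun y => ?_⟩
  obtain ⟨j, z, hz⟩ := 𝒱.exists_eq y
  have sq := isPullback_sub f (oHom (𝒱.f j) t) J
  have h4 := (h j).2 z
  haveI : IsFinite (pullback.fst (PicF.XTmap f (oHom (𝒱.f j) t)) J.subschemeι ≫
      PicF.XTproj f (Over.mk (𝒱.f j ≫ t))) :=
    MorphismProperty.of_isPullback (P := @IsFinite) sq h1
  haveI : Flat (pullback.fst (PicF.XTmap f (oHom (𝒱.f j) t)) J.subschemeι ≫
      PicF.XTproj f (Over.mk (𝒱.f j ≫ t))) :=
    MorphismProperty.of_isPullback (P := @Flat) sq h2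
  rw [comap_sub_eq, Scheme.Hom.finrank_comp_left_of_isIso,
    Scheme.Hom.finrank_of_isPullback _ _ _ _ sq z] at h4
  rw [← hz]
  exact h4

theorem hilbF_glue (T₀ : Scheme.{u}) (t : T₀ ⟶ S) (𝒱 : Scheme.OpenCover.{w} T₀)
    (b : ∀ j, (hilbF f d).obj (op (Over.mk (𝒱.f j ≫ t))))
    (hb : ∀ (i j : 𝒱.I₀) (T₁ : Scheme.{u}) (a₁ : T₁ ⟶ 𝒱.X i) (a₂ : T₁ ⟶ 𝒱.X j)
      (h : a₁ ≫ 𝒱.f i = a₂ ≫ 𝒱.f j),
      (hilbF f d).map (oHom a₁ (𝒱.f i ≫ t)).op (b i)
        = (hilbF f d).map (castHom (by rw [← Category.assoc, h, Category.assoc]) ≫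
            oHom a₂ (𝒱.f j ≫ t) : Over.mk (a₁ ≫ 𝒱.f i ≫ t) ⟶ _).op (b j)) :
    ∃ β : (hilbF f d).obj (op (Over.mk t)),
      ∀ j, (hilbF f d).map (oHom (𝒱.f j) t).op β = b j := by
  have hc : ∀ (i j : 𝒱.I₀) (V : Scheme.{u}) (a₁ : V ⟶ PicF.XT f (Over.mk (𝒱.f i ≫ t)))
      (a₂ : V ⟶ PicF.XT f (Over.mk (𝒱.f j ≫ t))),
      a₁ ≫ PicF.XTmap f (oHom (𝒱.f i) t) = a₂ ≫ PicF.XTmap f (oHom (𝒱.f j) t) →
      (b i).1.comap a₁ = (b j).1.comap a₂ := by
    intro i j V a₁ a₂ h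
    let c₁ : V ⟶ 𝒱.X i := a₁ ≫ PicF.XTproj f (Over.mk (𝒱.f i ≫ t))
    let c₂ : V ⟶ 𝒱.X j := a₂ ≫ PicF.XTproj f (Over.mk (𝒱.f j ≫ t))
    have hcc : c₁ ≫ 𝒱.f i = c₂ ≫ 𝒱.f j := by
      have e1 := XTmap_snd f (oHom (𝒱.f i) t)
      have e2 := XTmap_snd f (oHom (𝒱.f j) t)
      rw [oHom_left] at e1 e2
      change (a₁ ≫ pullback.snd f _) ≫ 𝒱.f i = (a₂ ≫ pullback.snd f _) ≫ 𝒱.f j
      rw [Category.assoc, Category.assoc, ← e1, ← e2, ← Category.assoc, ← Category.assoc, h]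
    have hfst : a₁ ≫ pullback.fst f (𝒱.f i ≫ t) = a₂ ≫ pullback.fst f (𝒱.f j ≫ t) := by
      have e1 := XTmap_fst f (oHom (𝒱.f i) t)
      have e2 := XTmap_fst f (oHom (𝒱.f j) t)
      change _ = pullback.fst f (𝒱.f i ≫ t) at e1
      change _ = pullback.fst f (𝒱.f j ≫ t) at e2
      rw [← e1, ← e2, ← Category.assoc, ← Category.assoc, h]
    let σ : V ⟶ PicF.XT f (Over.mk (c₁ ≫ 𝒱.f i ≫ t)) :=
      pullback.lift (a₁ ≫ pullback.fst f (𝒱.f i ≫ t)) (𝟙 V) (by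
        change _ = 𝟙 V ≫ (a₁ ≫ pullback.snd f _) ≫ 𝒱.f i ≫ t
        rw [Category.id_comp, Category.assoc, Category.assoc, pullback.condition]
        rfl)
    have hσ1 : σ ≫ pullback.fst f (c₁ ≫ 𝒱.f i ≫ t) = a₁ ≫ pullback.fst f (𝒱.f i ≫ t) :=
      pullback.lift_fst _ _ _
    have hσ2 : σ ≫ pullback.snd f (c₁ ≫ 𝒱.f i ≫ t) = 𝟙 V := pullback.lift_snd _ _ _
    have e₁ : σ ≫ PicF.XTmap f (oHom c₁ (𝒱.f i ≫ t)) = a₁ := by
      apply pullback.hom_ext
      · rw [Category.assoc]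
        erw [XTmap_fst f (oHom c₁ (𝒱.f i ≫ t))]
        exact hσ1
      · rw [Category.assoc]
        erw [XTmap_snd f (oHom c₁ (𝒱.f i ≫ t))]
        rw [oHom_left]
        erw [reassoc_of% hσ2]
    have e₂ : σ ≫ PicF.XTmap f (castHom (by rw [← Category.assoc, hcc, Category.assoc]) ≫
        oHom c₂ (𝒱.f j ≫ t) : Over.mk (c₁ ≫ 𝒱.f i ≫ t) ⟶ _) = a₂ := by
      apply pullback.hom_ext
      · rw [Category.assoc]
        erw [XTmap_fst f _]
        exact hσ1.trans hfst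
      · rw [Category.assoc]
        erw [XTmap_snd f _]
        have hl : (castHom (by rw [← Category.assoc, hcc, Category.assoc]) ≫
            oHom c₂ (𝒱.f j ≫ t) : Over.mk (c₁ ≫ 𝒱.f i ≫ t) ⟶ _).left = c₂ := by
          simp
        rw [hl]
        erw [reassoc_of% hσ2]
    have key := congrArg Subtype.val (hb i j V c₁ c₂ hcc)
    rw [hilbF_map_apply, hilbF_map_apply, hmap_val, hmap_val] at key
    rw [← e₁, Scheme.IdealSheafData.comap_comp, key, ← Scheme.IdealSheafData.comap_comp, e₂]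
  obtain ⟨J, hJ⟩ := exists_glue (fun j => PicF.XTmap f (oHom (𝒱.f j) t)) (fun j => (b j).1)
    (XTmap_cover f t 𝒱) hc
  refine ⟨⟨J, isFinLocFreeOfDeg_of_cover f d t 𝒱 J fun j => ?_⟩, fun j => ?_⟩
  · rw [hJ j]
    exact (b j).2
  · apply Subtype.ext
    rw [hilbF_map_apply, hmap_val]
    exact hJ j

theorem hilbF_isZarSheaf : IsZarSheaf.{w} (hilbF f d) where
  sep := hilbF_sep f d
  glue := hilbF_glue f d

end Groth.Agent.Lib.Helper5.HilbF
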