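import Mathlib
import Groth.Prelude.Def_HilbD
import Groth.Agent.Lib.Lead.HilbAPI1
import Groth.Agent.Lib.Helper5.LocRepF.Abs
import Groth.Agent.Lib.Helper5.IdGlue.Cover2

set_option backward.isDefEq.respectTransparency.types false
set_option synthInstance.maxHeartbeats 400000
set_option autoImplicit false
universe w u
open CategoryTheory CategoryTheory.Limits AlgebraicGeometry Opposite

namespace Groth.Agent.Lib.Helper5.HilbF

open Groth.Agent.Lead.HilbAPI Groth.Agent.Lib.Helper5.LocRepF Groth.Agent.Lib.Helper5.IdGlue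

variable {X S : Scheme.{u}} (f : X ⟶ S) (d : ℕ)

theorem XTmap_id' (T : Over S) : PicF.XTmap f (𝟙 T) = 𝟙 _ := by
  apply pullback.hom_ext
  · rw [XTmap_fst, Category.id_comp]
  · rw [XTmap_snd, Category.id_comp]
    exact Category.comp_id _

theorem pull_id' (T : Over S) (I : (PicF.XT f T).IdealSheafData) :
    HilbD.pull f (𝟙 T) I = I := by
  rw [pull_eq_comap, XTmap_id', Scheme.IdealSheafData.comap_id]

/-- the action of a morphism on the points of the Hilbert functor. -/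
noncomputable def hmap {T T' : Over S} (m : T' ⟶ T) (Z : HilbD.Obj f d T) : HilbD.Obj f d T' :=
  ⟨HilbD.pull f m Z.1, pull_isFinLocFreeOfDeg f m d Z.1 Z.2⟩

@[simp] theorem hmap_val {T T' : Over S} (m : T' ⟶ T) (Z : HilbD.Obj f d T) :
    (hmap f d m Z).1 = Z.1.comap (PicF.XTmap f m) := pull_eq_comap f m Z.1

/-- the Hilbert functor of points. -/
noncomputable def hilbF : (Over S)ᵒᵖ ⥤ Type u where
  obj T := HilbD.Obj f d T.unop
  map {T T'} m := TypeCat.ofHom fun Z => hmap f d m.unop Z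
  map_id T := ConcreteCategory.hom_ext _ _ fun Z => Subtype.ext (pull_id' f T.unop Z.1)
  map_comp m m' := ConcreteCategory.hom_ext _ _ fun Z =>
    Subtype.ext (pull_comp f m'.unop m.unop Z.1)

@[simp] theorem hilbF_map_apply {T T' : Over S} (m : T' ⟶ T) (Z : HilbD.Obj f d T) :
    (hilbF f d).map m.op Z = hmap f d m Z := rfl

instance isOpenImmersion_XTmap {T T' : Over S} (m : T' ⟶ T) [IsOpenImmersion m.left] :
    IsOpenImmersion (PicF.XTmap f m) :=
  MorphismProperty.of_isPullback (P := @IsOpenImmersion) (isPullback_XTmap f m).flip inferInstance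

theorem XTmap_cover {T₀ : Scheme.{u}} (t : T₀ ⟶ S) (𝒱 : Scheme.OpenCover.{w} T₀)
    (y : PicF.XT f (Over.mk t)) :
    ∃ j, y ∈ Set.range (PicF.XTmap f (oHom (𝒱.f j) t)) := by
  obtain ⟨j, z, hz⟩ := 𝒱.exists_eq (PicF.XTproj f (Over.mk t) y)
  obtain ⟨w, hw, -⟩ := Scheme.exists_preimage_of_isPullback
    (isPullback_XTmap f (oHom (𝒱.f j) t)) y z hz.symm
  exact ⟨j, w, hw⟩

instance (T₀ : Scheme.{u}) (t : T₀ ⟶ S) (𝒱 : Scheme.OpenCover.{w} T₀) (j : 𝒱.I₀) :
    IsOpenImmersion (oHom (𝒱.f j) t).left := by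
  rw [oHom_left]
  infer_instance

theorem hilbF_sep (T₀ : Scheme.{u}) (t : T₀ ⟶ S) (𝒱 : Scheme.OpenCover.{w} T₀)
    (b b' : (hilbF f d).obj (op (Over.mk t)))
    (h : ∀ j, (hilbF f d).map (oHom (𝒱.f j) t).op b = (hilbF f d).map (oHom (𝒱.f j) t).op b') :
    b = b' := by
  apply Subtype.ext
  refine ext_of_comap (fun j => PicF.XTmap f (oHom (𝒱.f j) t)) (XTmap_cover f t 𝒱) b.1 b'.1 ?_
  intro j
  have := congrArg Subtype.val (h j)
  rw [hilbF_map_apply, hilbF_map_apply, hmap_val, hmap_val] at this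
  exact this

end Groth.Agent.Lib.Helper5.HilbF
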